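import Cfsg.Agent.H161.G2Main
import Cfsg.Agent.H373.Recog
import Cfsg.Agent.S1055
import Cfsg.Agent.FastGrp
import Cfsg.Agent.Prune
set_option linter.all false

section
prune_inst 0x7ff3adf9dfbbafffdfff7e7ffef8fdfc3b959fffecdff94bffe869ffafdfa31209c5f3ad19e030fe0ef7c21c18a87803fbffffffe26ffc7ffffdfff45ffbee5fe5f7bd08719788340fbc2fff63f07f8e7f3fffffffffffffffffffffffffffbeffffffffffff

-- part: H542/G2X/Spec
section
prune_inst 0xc5206204410002000000001010202004040001300020000179200102010ed32280c028404c801900024e320110450000000000d00000000000003000000201208029500603740d04240009803006000000000000000000000000000000041000000000000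
set_option linter.all false
open scoped Cfsg.Agent.FastGrp

/-!
# The spectrum of `G₂(q)` (helper542, TEAM U-EXC)

`Om p q m` : `m` is an element order of `G₂(q)`; `om_iff`.
-/

set_option autoImplicit false

namespace Cfsg.Agent.H542.G2X

open Cfsg.Lie

/-- The element orders of `G₂(q)`, `q` a power of `p`. -/
def Om (p q m : ℕ) : Prop :=
  m ∣ p * (q + 1) ∨ m ∣ p * (q - 1) ∨ m ∣ q ^ 2 - 1 ∨ m ∣ q ^ 2 + q + 1 ∨ m ∣ q ^ 2 - q + 1 ∨
    (p = 2 ∧ (m ∣ 8 ∨ m ∣ 12)) ∨ ((p = 3 ∨ p = 5) ∧ m ∣ p ^ 2)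

/-- The parameters. -/
structure Par (p f q : ℕ) : Prop where
  hp : p.Prime
  hf : 1 ≤ f
  hq : q = p ^ f
  h3 : 3 ≤ q

theorem exists_of_dvd {G : Type*} [Group G] [Finite G] {m n : ℕ} (h : m ∣ n) (hx : ∃ x : G, orderOf x = n) :
    ∃ x : G, orderOf x = m := by
  obtain ⟨x, rfl⟩ := hx
  obtain ⟨c, hc⟩ := h
  have hpos := orderOf_pos x
  have hc0 : c ≠ 0 := by
    rintro rfl
    rw [mul_zero] at hc
    omega
  exact ⟨x ^ c, by rw [orderOf_pow_of_dvd hc0 ⟨m, by rw [hc, mul_comm]⟩, hc, Nat.mul_div_cancel _ (Nat.pos_of_ne_zero hc0)]⟩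

theorem Par.exists {F : Type*} [Field F] [Fintype F] (h3 : 3 ≤ Fintype.card F) :
    ∃ p f, CharP F p ∧ Par p f (Fintype.card F) := by
  obtain ⟨p, hc⟩ := CharP.exists F
  obtain ⟨k, hk1, hk2⟩ := FiniteField.card F p
  exact ⟨p, k, hc, hk1, k.pos, hk2, h3⟩

/-- **The spectrum.** -/
theorem om_iff {F : Type*} [Field F] [Fintype F] {p f : ℕ} (P : Par p f (Fintype.card F)) {m : ℕ} :
    (∃ x : ↥(chevG2.group F), orderOf x = m) ↔ Om p (Fintype.card F) m := by
  have hpf : Fact p.Prime := ⟨P.hp⟩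
  have hF : Fintype.card F = p ^ f := P.hq
  have h3 : 3 ≤ p ^ f := hF ▸ P.h3
  have hsq : p ^ (2 * f) = (p ^ f) ^ 2 := by rw [← pow_mul, mul_comm]
  constructor
  · rintro ⟨x, rfl⟩
    obtain ⟨N, h1, h2⟩ := H161.G2Main.upper hF h3 ⟨x, rfl⟩
    rw [hsq, ← hF] at h2
    unfold Om
    rcases h2 with rfl | rfl | rfl | rfl | rfl | ⟨h, rfl | rfl⟩ | ⟨h, rfl⟩ <;> (solve | simp only [*, true_or, or_true, and_self, true_and, and_true, not_false_eq_true] | simp only [h1, true_or, or_true])
  · intro h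
    have key : ∀ N, (N = p * (p ^ f + 1) ∨ N = p * (p ^ f - 1) ∨
      N = p ^ (2 * f) - 1 ∨ N = p ^ (2 * f) + p ^ f + 1 ∨ N = p ^ (2 * f) - p ^ f + 1 ∨
      (p = 2 ∧ (N = 8 ∨ N = 12)) ∨ ((p = 3 ∨ p = 5) ∧ N = p ^ 2)) → m ∣ N →
      ∃ x : ↥(chevG2.group F), orderOf x = m := by
      intro N hN hm
      exact exists_of_dvd hm (H161.G2Main.lower (by have := P.hf; omega) hF h3 hN)
    rw [hsq, ← hF] at key
    rcases h with h | h | h | h | h | ⟨h1, h | h⟩ | ⟨h1, h⟩
    · exact key _ (by tauto) h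
    · exact key _ (by (clear * - F p; tauto)) h
    · exact key _ (by (clear * -; tauto)) h
    · exact key _ (by (clear * -; (solve | simp only [*, true_or, or_true, and_self, true_and, and_true, not_false_eq_true] | tauto))) h
    · exact key _ (by (clear * -; tauto)) h
    · exact key _ (by (clear * - h1; (solve | simp only [*, true_or, or_true, and_self, true_and, and_true, not_false_eq_true] | tauto))) h
    · exact key _ (by (clear * - h1; (solve | simp only [*, true_or, or_true, and_self, true_and, and_true, not_false_eq_true] | tauto))) h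
    · exact key _ (by (clear * - h1; (solve | simp only [*, true_or, or_true, and_self, true_and, and_true, not_false_eq_true] | tauto))) h

/-! ### arithmetic -/

section arith

theorem sq_sub {q : ℕ} (h : 1 ≤ q) : q ^ 2 - 1 = (q - 1) * (q + 1) := by
  obtain ⟨k, rfl⟩ : ∃ k, q = k + 1 := ⟨q - 1, by omega⟩
  have : (k + 1) ^ 2 = k * (k + 2) + 1 := by ring
  rw [this, Nat.add_sub_cancel, Nat.add_sub_cancel]

/-- `q ^ 2 - q + 1` without subtraction -/
theorem phi6 (q : ℕ) : q ^ 2 - q + 1 + q = q ^ 2 + 1 := by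
  have : q ≤ q ^ 2 := by nlinarith
  omega

variable {p f q : ℕ} (P : Par p f q)
include P

theorem Par.p_dvd : p ∣ q := by rw [P.hq]; exact dvd_pow_self p (by have := P.hf; omega)

theorem Par.prime_eq {r : ℕ} (hr : r.Prime) (h : r ∣ q) : r = p := by
  rw [P.hq] at h
  exact (Nat.prime_dvd_prime_iff_eq hr P.hp).1 (hr.dvd_of_dvd_pow h)

/-- a prime divisor `≥ 5` of `q² - q + 1` -/
theorem Par.exists_six : ∃ r, r.Prime ∧ 5 ≤ r ∧ r ∣ q ^ 2 - q + 1 := by
  have h3 := P.h3
  have h6 := phi6 q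
  by_contra hcon
  push Not at hcon
  have hodd : (q ^ 2 - q + 1) % 2 = 1 := by
    rcases Nat.even_or_odd q with ⟨k, hk⟩ | ⟨k, hk⟩
    · have : q ^ 2 = 2 * (k * k * 2) := by rw [hk]; ring
      omega
    · have : q ^ 2 = 2 * (2 * k * k + 2 * k) + 1 := by rw [hk]; ring
      omega
  have h9 : ¬ 9 ∣ q ^ 2 - q + 1 := by
    intro h
    have h1 : (q ^ 2 - q + 1) % 9 = 0 := Nat.mod_eq_zero_of_dvd h
    have h2 : (q ^ 2 + 1) % 9 = q % 9 := by (clear * - h; omega)
    have h4 : q ^ 2 % 9 = ((q % 9) * (q % 9)) % 9 := by rw [pow_two, Nat.mul_mod]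
    have h5 : q % 9 < 9 := Nat.mod_lt _ (by norm_num)
    interval_cases h7 : q % 9 <;> (clear * - h2 h4; omega)
  have h1 : ∀ r, r.Prime → r ∣ q ^ 2 - q + 1 → r = 3 := by
    intro r hr hd
    have h5 : r < 5 := by
      by_contra h
      exact hcon r hr (by omega) hd
    have := hr.two_le
    interval_cases r
    · omega
    · rfl
    · exact absurd hr (by norm_num)
  have hbig : 3 < q ^ 2 - q + 1 := by nlinarith only [h3, h6]
  obtain ⟨r, hr, hd⟩ := Nat.exists_prime_and_dvd (n := q ^ 2 - q + 1) (by omega)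
  have hr3 := h1 r hr hd
  subst hr3
  obtain ⟨k, hk⟩ := hd
  obtain ⟨s, hs, hd'⟩ := Nat.exists_prime_and_dvd (n := k) (by rintro rfl; omega)
  have hs3 := h1 s hs (hk ▸ dvd_mul_of_dvd_right hd' _)
  subst hs3
  apply h9
  rw [hk]
  exact mul_dvd_mul_left 3 hd'

/-- a prime divisor `≥ 5` of `q² + q + 1` -/
theorem Par.exists_three : ∃ r, r.Prime ∧ 5 ≤ r ∧ r ∣ q ^ 2 + q + 1 := by
  have h3 := P.h3
  by_contra hcon
  push Not at hcon
  have hodd : (q ^ 2 + q + 1) % 2 = 1 := by
    rcases Nat.even_or_odd q with ⟨k, hk⟩ | ⟨k, hk⟩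
    · have : q ^ 2 = 2 * (k * k * 2) := by rw [hk]; ring
      omega
    · have : q ^ 2 = 2 * (2 * k * k + 2 * k) + 1 := by rw [hk]; ring
      omega
  have h9 : ¬ 9 ∣ q ^ 2 + q + 1 := by
    intro h
    have h1 : (q ^ 2 + q + 1) % 9 = 0 := Nat.mod_eq_zero_of_dvd h
    have h4 : q ^ 2 % 9 = ((q % 9) * (q % 9)) % 9 := by rw [pow_two, Nat.mul_mod]
    have h5 : q % 9 < 9 := Nat.mod_lt _ (by norm_num)
    interval_cases h7 : q % 9 <;> (clear * - h h7 h4; omega)
  have h1 : ∀ r, r.Prime → r ∣ q ^ 2 + q + 1 → r = 3 := by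
    intro r hr hd
    have h5 : r < 5 := by
      by_contra h
      exact hcon r hr (by omega) hd
    have := hr.two_le
    interval_cases r
    · omega
    · rfl
    · exact absurd hr (by norm_num)
  have hbig : 3 < q ^ 2 + q + 1 := by linarith only [h3, _root_.sq_nonneg (↑q : ℤ)]
  obtain ⟨r, hr, hd⟩ := Nat.exists_prime_and_dvd (n := q ^ 2 + q + 1) (by omega)
  have hr3 := h1 r hr hd
  subst hr3
  obtain ⟨k, hk⟩ := hd
  obtain ⟨s, hs, hd'⟩ := Nat.exists_prime_and_dvd (n := k) (by rintro rfl; omega)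
  have hs3 := h1 s hs (hk ▸ dvd_mul_of_dvd_right hd' _)
  subst hs3
  apply h9
  rw [hk]
  exact mul_dvd_mul_left 3 hd'

/-- A prime `≥ 5` dividing `q² + q + 1` divides none of the other numbers. -/
theorem Par.iso_three {r : ℕ} (hr : r.Prime) (h5 : 5 ≤ r) (hd : r ∣ q ^ 2 + q + 1) :
    ¬ r ∣ p * (q + 1) ∧ ¬ r ∣ p * (q - 1) ∧ ¬ r ∣ q ^ 2 - 1 ∧ ¬ r ∣ q ^ 2 - q + 1 ∧ ¬ r ∣ q ∧ r ≠ p := by
  have h3 := P.h3
  have e1 := phi6 q
  have e2 := sq_sub (q := q) (by omega)
  have a0 : ¬ r ∣ q := by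
    intro h
    have h1 : r ∣ q ^ 2 + q := by rw [pow_two]; exact dvd_add (h.mul_left _) h
    have := (Nat.dvd_add_right h1).1 hd
    exact hr.one_lt.ne' (Nat.dvd_one.1 this)
  have a1 : ¬ r ∣ q + 1 := by
    intro h
    have h1 : r ∣ q * (q + 1) + 1 := by
      have : q * (q + 1) + 1 = q ^ 2 + q + 1 := by ring
      rwa [this]
    exact hr.one_lt.ne' (Nat.dvd_one.1 ((Nat.dvd_add_right (h.mul_left q)).1 h1))
  have a2 : ¬ r ∣ q - 1 := by
    intro h
    obtain ⟨k, hk⟩ : ∃ k, q = k + 1 := ⟨q - 1, by omega⟩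
    rw [hk, Nat.add_sub_cancel] at h
    have h1 : q ^ 2 + q + 1 = k * (k + 3) + 3 := by rw [hk]; ring
    rw [h1] at hd
    have := (Nat.dvd_add_right (h.mul_right _)).1 hd
    have := Nat.le_of_dvd (by norm_num) this
    omega
  have ap : r ≠ p := by rintro rfl; exact a0 P.p_dvd
  have ap' : ¬ r ∣ p := fun h => ap ((Nat.prime_dvd_prime_iff_eq hr P.hp).1 h)
  refine ⟨?_, ?_, ?_, ?_, a0, ap⟩
  · intro h; rcases hr.dvd_mul.1 h with h | h
    · exact ap' h
    · exact a1 h
  · intro h; rcases hr.dvd_mul.1 h with h | h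
    · exact ap' h
    · exact a2 h
  · intro h; rw [e2] at h; rcases hr.dvd_mul.1 h with h | h
    · exact a2 h
    · exact a1 h
  · intro h
    have h1 : r ∣ 2 * q := by
      have h2 : q ^ 2 + q + 1 = (q ^ 2 - q + 1) + 2 * q := by omega
      rw [h2] at hd
      exact (Nat.dvd_add_right h).1 hd
    rcases hr.dvd_mul.1 h1 with h | h
    · have := Nat.le_of_dvd (by norm_num) h
      omega
    · exact a0 h

/-- A prime `≥ 5` dividing `q² - q + 1` divides none of the other numbers. -/
theorem Par.iso_six {r : ℕ} (hr : r.Prime) (h5 : 5 ≤ r) (hd : r ∣ q ^ 2 - q + 1) :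
    ¬ r ∣ p * (q + 1) ∧ ¬ r ∣ p * (q - 1) ∧ ¬ r ∣ q ^ 2 - 1 ∧ ¬ r ∣ q ^ 2 + q + 1 ∧ ¬ r ∣ q ∧ r ≠ p := by
  have h3 := P.h3
  have e1 := phi6 q
  have e2 := sq_sub (q := q) (by omega)
  have a0 : ¬ r ∣ q := by
    intro h
    have h1 : r ∣ q ^ 2 + 1 := by rw [← e1]; exact dvd_add hd h
    have h2 : r ∣ q ^ 2 := by rw [pow_two]; exact h.mul_left _
    have := (Nat.dvd_add_right h2).1 h1
    exact hr.one_lt.ne' (Nat.dvd_one.1 this)
  have a2 : ¬ r ∣ q - 1 := by
    intro h
    obtain ⟨k, hk⟩ : ∃ k, q = k + 1 := ⟨q - 1, by omega⟩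
    rw [hk, Nat.add_sub_cancel] at h
    have h1 : q ^ 2 - q + 1 = k * (k + 1) + 1 := by
      have : q ^ 2 = k * (k + 1) + 1 + k := by rw [hk]; ring
      omega
    rw [h1] at hd
    have := (Nat.dvd_add_right (h.mul_right _)).1 hd
    exact hr.one_lt.ne' (Nat.dvd_one.1 this)
  have a1 : ¬ r ∣ q + 1 := by
    intro h
    obtain ⟨k, hk⟩ : ∃ k, q = k + 1 := ⟨q - 1, by omega⟩
    have h1 : (q ^ 2 - q + 1) = (q + 1) * (k - 1) + 3 := by
      obtain ⟨l, hl⟩ : ∃ l, k = l + 1 := ⟨k - 1, by omega⟩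
      have : q ^ 2 = (q + 1) * l + 2 + q := by rw [hk, hl]; ring
      have h' : k - 1 = l := by omega
      rw [h']
      omega
    rw [h1] at hd
    have := (Nat.dvd_add_right (h.mul_right _)).1 hd
    have := Nat.le_of_dvd (by norm_num) this
    omega
  have ap : r ≠ p := by rintro rfl; exact a0 P.p_dvd
  have ap' : ¬ r ∣ p := fun h => ap ((Nat.prime_dvd_prime_iff_eq hr P.hp).1 h)
  refine ⟨?_, ?_, ?_, ?_, a0, ap⟩
  · intro h; rcases hr.dvd_mul.1 h with h | h
    · exact ap' h
    · exact a1 h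
  · intro h; rcases hr.dvd_mul.1 h with h | h
    · exact ap' h
    · exact a2 h
  · intro h; rw [e2] at h; rcases hr.dvd_mul.1 h with h | h
    · exact a2 h
    · exact a1 h
  · intro h
    have h1 : r ∣ 2 * q := by
      have h2 : q ^ 2 + q + 1 = (q ^ 2 - q + 1) + 2 * q := by omega
      rw [h2] at h
      exact (Nat.dvd_add_right hd).1 h
    rcases hr.dvd_mul.1 h1 with h | h
    · have := Nat.le_of_dvd (by norm_num) h
      omega
    · exact a0 h

/-- `Om` for multiples of an isolated prime -/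
theorem Par.om_three {r m : ℕ} (hr : r.Prime) (h5 : 5 ≤ r) (hd : r ∣ q ^ 2 + q + 1) (hm : r ∣ m) (h : Om p q m) :
    m ∣ q ^ 2 + q + 1 := by
  obtain ⟨b1, b2, b3, b4, b5, b6⟩ := P.iso_three hr h5 hd
  rcases h with h | h | h | h | h | ⟨h1, h | h⟩ | ⟨h1, h⟩
  · exact absurd (hm.trans h) b1
  · exact absurd (hm.trans h) b2
  · exact absurd (hm.trans h) b3
  · exact h
  · exact absurd (hm.trans h) b4
  · exfalso
    have h2 : r ∣ 2 ^ 3 := by norm_num; exact hm.trans h
    have := Nat.le_of_dvd (by norm_num) (hr.dvd_of_dvd_pow h2)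
    omega
  · exfalso
    have h2 : r ∣ 2 ^ 2 * 3 := by norm_num; exact hm.trans h
    rcases hr.dvd_mul.1 h2 with h2 | h2
    · have := Nat.le_of_dvd (by norm_num) (hr.dvd_of_dvd_pow h2)
      omega
    · have := Nat.le_of_dvd (by norm_num) h2
      omega
  · exact absurd ((Nat.prime_dvd_prime_iff_eq hr P.hp).1 (hr.dvd_of_dvd_pow (hm.trans h))) b6

theorem Par.om_six {r m : ℕ} (hr : r.Prime) (h5 : 5 ≤ r) (hd : r ∣ q ^ 2 - q + 1) (hm : r ∣ m) (h : Om p q m) :
    m ∣ q ^ 2 - q + 1 := by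
  obtain ⟨b1, b2, b3, b4, b5, b6⟩ := P.iso_six hr h5 hd
  rcases h with h | h | h | h | h | ⟨h1, h | h⟩ | ⟨h1, h⟩
  · exact absurd (hm.trans h) b1
  · exact absurd (hm.trans h) b2
  · exact absurd (hm.trans h) b3
  · exact absurd (hm.trans h) b4
  · exact h
  · exfalso
    have h2 : r ∣ 2 ^ 3 := by norm_num; exact hm.trans h
    have := Nat.le_of_dvd (by norm_num) (hr.dvd_of_dvd_pow h2)
    omega
  · exfalso
    have h2 : r ∣ 2 ^ 2 * 3 := by norm_num; exact hm.trans h
    rcases hr.dvd_mul.1 h2 with h2 | h2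
    · have := Nat.le_of_dvd (by norm_num) (hr.dvd_of_dvd_pow h2)
      omega
    · have := Nat.le_of_dvd (by norm_num) h2
      omega
  · exact absurd ((Nat.prime_dvd_prime_iff_eq hr P.hp).1 (hr.dvd_of_dvd_pow (hm.trans h))) b6

end arith

end Cfsg.Agent.H542.G2X
end

-- part: H542/G2X/CovCross
section
prune_inst 0x400000000000000000000000000000000000000000000000000000000000000000000040000000000000000000000000000000000000000000000000000000000000000000000000000000000000000000000000000000000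
set_option linter.all false
open scoped Cfsg.Agent.FastGrp

/-!
# Covers of `G₂(q)` in cross characteristic (helper542, TEAM U-EXC)

`cov_cross` : `V` a nonzero elementary abelian `ℓ`-group on which `G₂(q)` acts, `ℓ ≠ p` : there is `x` in `G₂(q)` with a
nonzero norm on `V` and `ℓ * orderOf x` is not an element order of `G₂(q)`.
-/

set_option autoImplicit false
set_option linter.unusedSectionVars false

namespace Cfsg.Agent.H542.G2X

open Cfsg.Lie Matrix Finset
open Cfsg.Agent.H375.LThree (emb emb_injective)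
open Cfsg.Agent.H161.Oct (slM slM_inj slM_mem toE toE_mem dM dM_inj)

universe v w

section torus

variable {F : Type*} [Field F]

/-- the embedding of `SL₃` -/
noncomputable def sl (F : Type*) [Field F] : Matrix.SpecialLinearGroup (Fin 3) F →* ↥(Cfsg.Lie.G2 F) where
  toFun P := ⟨(toE F).symm (slM F P), by
    rw [← toE_mem, MulEquiv.apply_symm_apply]; exact slM_mem P⟩
  map_one' := by
    apply Subtype.ext
    show (toE F).symm (slM F 1) = 1
    rw [map_one, map_one]
  map_mul' P Q := by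
    apply Subtype.ext
    show (toE F).symm (slM F (P * Q)) = (toE F).symm (slM F P) * (toE F).symm (slM F Q)
    rw [map_mul, map_mul]

theorem sl_inj (F : Type*) [Field F] : Function.Injective (sl F) := by
  intro P Q h
  have h1 : (toE F).symm (slM F P) = (toE F).symm (slM F Q) := congrArg Subtype.val h
  exact slM_inj ((toE F).symm.injective h1)

/-- the embedding of `SL₃` in the Chevalley group -/
theorem exists_sigma [Finite F] : ∃ σ : Matrix.SpecialLinearGroup (Fin 3) F →* ↥(chevG2.group F),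
    Function.Injective σ := by
  obtain ⟨e⟩ := Cfsg.Agent.H638.G2Iso.equiv (F := F)
  exact ⟨e.toMonoidHom.comp (sl F), e.injective.comp (sl_inj F)⟩

/-- the unipotent radical -/
def uuF (a : F × F) : Matrix.SpecialLinearGroup (Fin 3) F :=
  ⟨!![1, 0, a.1; 0, 1, a.2; 0, 0, 1], by rw [det_fin_three]; simp⟩

theorem coe_uuF (a : F × F) : (uuF a : Matrix (Fin 3) (Fin 3) F) =
    !![1, 0, a.1; 0, 1, a.2; 0, 0, 1] := rfl

/-- the unipotent radical -/
def uu : Multiplicative (F × F) →* Matrix.SpecialLinearGroup (Fin 3) F where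
  toFun a := uuF (Multiplicative.toAdd a)
  map_one' := by
    apply Subtype.ext
    rw [coe_uuF, Matrix.SpecialLinearGroup.coe_one]
    ext i j
    (revert i j; simp only [_root_.Fin.forall_fin_succ, _root_.toAdd_one, _root_.Prod.fst_zero, _root_.Prod.snd_zero, _root_.Matrix.of_apply, _root_.Matrix.cons_val', _root_.Matrix.cons_val_fin_one, Fin.isValue, _root_.Matrix.cons_val_zero, _root_.Matrix.cons_val_succ, _root_.IsEmpty.forall_iff, _root_.and_true, _root_.Matrix.one_apply_eq, Nat.reduceAdd, _root_.Fin.succ_zero_eq_one, _root_.ne_eq, _root_.zero_ne_one, _root_.not_false_eq_true, _root_.Matrix.one_apply_ne, _root_.Fin.succ_one_eq_two, Fin.reduceEq, _root_.and_self, _root_.Fin.succ_ne_zero, _root_.true_and])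
  map_mul' a b := by
    apply Subtype.ext
    rw [Matrix.SpecialLinearGroup.coe_mul, coe_uuF, coe_uuF, coe_uuF]
    ext i j
    fin_cases i <;> fin_cases j <;> simp [Matrix.mul_apply, Fin.sum_univ_succ, add_comm]

theorem coe_uu (a : F × F) : (uu (Multiplicative.ofAdd a) : Matrix (Fin 3) (Fin 3) F) =
    !![1, 0, a.1; 0, 1, a.2; 0, 0, 1] := rfl

theorem uu_injective : Function.Injective (uu (F := F)) := by
  rw [injective_iff_map_eq_one]
  intro a ha
  have h1 : (uu a : Matrix (Fin 3) (Fin 3) F) = 1 := by rw [ha]; rfl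
  have h02 := congrFun (congrFun h1 0) 2
  have h12 := congrFun (congrFun h1 1) 2
  change (Multiplicative.toAdd a).1 = 0 at h02
  change (Multiplicative.toAdd a).2 = 0 at h12
  apply Multiplicative.toAdd.injective
  exact Prod.ext h02 h12

variable [Fintype F]

theorem coe_emb (g : GL (Fin 2) F) : (emb g : Matrix (Fin 3) (Fin 3) F) =
    !![(g : Matrix (Fin 2) (Fin 2) F) 0 0, (g : Matrix (Fin 2) (Fin 2) F) 0 1, 0;
      (g : Matrix (Fin 2) (Fin 2) F) 1 0, (g : Matrix (Fin 2) (Fin 2) F) 1 1, 0;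
      0, 0, ((g : Matrix (Fin 2) (Fin 2) F).det)⁻¹] := rfl

theorem emb_uu (g : GL (Fin 2) F) (a : F × F) :
    emb g * uu (Multiplicative.ofAdd a) = uu (Multiplicative.ofAdd
      ((g : Matrix (Fin 2) (Fin 2) F).det * ((g : Matrix (Fin 2) (Fin 2) F) 0 0 * a.1 + (g : Matrix (Fin 2) (Fin 2) F) 0 1 * a.2),
       (g : Matrix (Fin 2) (Fin 2) F).det * ((g : Matrix (Fin 2) (Fin 2) F) 1 0 * a.1 + (g : Matrix (Fin 2) (Fin 2) F) 1 1 * a.2))) *
      emb g := by
  have h : (g : Matrix (Fin 2) (Fin 2) F).det ≠ 0 := (Matrix.isUnits_det_units g).ne_zero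
  apply Subtype.ext
  rw [Matrix.SpecialLinearGroup.coe_mul, Matrix.SpecialLinearGroup.coe_mul, coe_emb, coe_uu, coe_uu]
  ext i j
  (revert i j; simp only [Matrix.mul_apply, Fin.sum_univ_succ, _root_.Fin.forall_fin_succ, Fin.isValue, _root_.Matrix.of_apply, _root_.Matrix.cons_val', _root_.Matrix.cons_val_fin_one, _root_.Matrix.cons_val_zero, _root_.Matrix.cons_val_succ, _root_.Finset.univ_unique, _root_.Fin.default_eq_zero, _root_.Finset.sum_const, _root_.Finset.card_singleton, _root_.one_smul, _root_.mul_one, _root_.MulZeroClass.mul_zero, _root_.add_zero, _root_.zero_add, _root_.forall_const, _root_.one_mul, _root_.MulZeroClass.zero_mul, _root_.true_and, _root_.and_self, _root_.implies_true, _root_.and_true]) <;> (repeat' with_reducible apply And.intro) <;> field_simp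

end torus

section frob

variable {F : Type*} [Field F] [Fintype F]

/-- the fixed points of `det(M) M`, `M` a matrix of the Singer group -/
theorem fpf {K : Type*} [Field K] [Algebra F K] (b : Module.Basis (Fin 2) F K) {z : K} (hz0 : z ≠ 0)
    {v : Fin 2 → F} (h : (Algebra.leftMulMatrix b z).det • (Algebra.leftMulMatrix b z *ᵥ v) = v) :
    v = 0 ∨ (z ^ 3 = 1 ∧ z ^ (Fintype.card F - 1) = 1) := by
  set M := Algebra.leftMulMatrix b z with hM
  set d := M.det with hd
  have hd0 : d ≠ 0 := by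
    intro h0
    have h1 : (M * Algebra.leftMulMatrix b z⁻¹).det = 0 := by rw [det_mul, ← hd, h0, zero_mul]
    rw [hM, ← map_mul, mul_inv_cancel₀ hz0, map_one, det_one] at h1
    exact one_ne_zero h1
  have hw : Algebra.leftMulMatrix b (d • z) = d • M := by rw [map_smul]
  by_cases hw1 : d • z = 1
  · right
    have h1 : z = d⁻¹ • (1 : K) := by rw [← hw1, smul_smul, inv_mul_cancel₀ hd0, one_smul]
    have h2 : M = d⁻¹ • (1 : Matrix (Fin 2) (Fin 2) F) := by rw [hM, h1, map_smul, map_one]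
    have h3 : d = (d⁻¹) ^ 2 := by
      conv_lhs => rw [hd, h2]
      simp
    have h4 : d ^ 3 = 1 := by
      have : d * d ^ 2 = (d⁻¹) ^ 2 * d ^ 2 := by rw [← h3]
      rw [← mul_pow, inv_mul_cancel₀ hd0, one_pow] at this
      rw [← this]; ring
    have h5 : d ^ (Fintype.card F - 1) = 1 := FiniteField.pow_card_sub_one_eq_one d hd0
    constructor
    · rw [h1, smul_pow, one_pow, inv_pow, h4, inv_one, one_smul]
    · rw [h1, smul_pow, one_pow, inv_pow, h5, inv_one, one_smul]
  · left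
    have h1 : Algebra.leftMulMatrix b (d • z - 1) *ᵥ v = 0 := by
      rw [map_sub, map_one, hw, sub_mulVec, one_mulVec, smul_mulVec, h, sub_self]
    have h2 : Algebra.leftMulMatrix b (d • z - 1)⁻¹ *ᵥ (Algebra.leftMulMatrix b (d • z - 1) *ᵥ v) = v := by
      rw [mulVec_mulVec, ← map_mul, inv_mul_cancel₀ (sub_ne_zero.2 hw1), map_one, one_mulVec]
    rw [h1, mulVec_zero] at h2
    exact h2.symm

/-- **The subgroup `q² : (q² - 1)`.** -/
theorem frob {p : ℕ} [hp : Fact p.Prime] [CharP F p] :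
    ∃ (U : Subgroup (Matrix.SpecialLinearGroup (Fin 3) F)) (c : Matrix.SpecialLinearGroup (Fin 3) F),
    Nat.card U = Fintype.card F ^ 2 ∧ (∀ a ∈ U, c * a * c⁻¹ ∈ U) ∧
    (∀ i, ∀ a ∈ U, c ^ i * a = a * c ^ i → a = 1 ∨ ((c ^ i) ^ 3 = 1 ∧ (c ^ i) ^ (Fintype.card F - 1) = 1)) ∧
    orderOf c = Fintype.card F ^ 2 - 1 := by
  classical
  let K := FiniteField.Extension F p 2
  have hKcard : Nat.card K = Nat.card F ^ 2 := FiniteField.natCard_extension F p 2
  let b := Module.finBasisOfFinrankEq F K (FiniteField.finrank_extension F p 2)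
  obtain ⟨y, hy⟩ := IsCyclic.exists_generator (α := Kˣ)
  have hordy : orderOf y = Nat.card F ^ 2 - 1 := by
    rw [orderOf_eq_card_of_forall_mem_zpowers hy, Nat.card_units, hKcard]
  let tt : Kˣ →* GL (Fin 2) F := Units.map (Algebra.leftMulMatrix b).toRingHom.toMonoidHom
  have htt : Function.Injective tt := by
    apply Units.map_injective
    exact Algebra.leftMulMatrix_injective b
  have hcoe : ∀ z : Kˣ, (tt z : Matrix (Fin 2) (Fin 2) F) = Algebra.leftMulMatrix b (z : K) := fun z => rfl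
  refine ⟨uu.range, emb (tt y), ?_, ?_, ?_, ?_⟩
  · rw [← Nat.card_congr (MonoidHom.ofInjective uu_injective).toEquiv, Nat.card_congr Multiplicative.toAdd,
      Nat.card_prod, Nat.card_eq_fintype_card, pow_two]
  · rintro _ ⟨a, rfl⟩
    obtain ⟨a, rfl⟩ := Multiplicative.ofAdd.surjective a
    rw [emb_uu, mul_inv_cancel_right]
    exact ⟨_, rfl⟩
  · rintro i _ ⟨a, rfl⟩ hc
    obtain ⟨a, rfl⟩ := Multiplicative.ofAdd.surjective a
    rw [← map_pow, ← map_pow] at hc ⊢
    set z := y ^ i with hz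
    rw [emb_uu] at hc
    have h1 := uu_injective (mul_right_cancel hc)
    have h2 := Multiplicative.ofAdd.injective h1
    have h3 := fpf (F := F) b (z := (z : K)) z.ne_zero (v := ![a.1, a.2]) (by
      rw [← hcoe]
      have e1 := congrArg Prod.fst h2
      have e2 := congrArg Prod.snd h2
      simp only at e1 e2
      ext j
      fin_cases j
      · simp only [_root_.Matrix.mulVec_fin_two, _root_.Nat.succ_eq_add_one, _root_.Nat.reduceAdd, _root_.Fin.isValue, _root_.Matrix.cons_val_zero, _root_.Matrix.cons_val_one, _root_.Matrix.cons_val_fin_one, _root_.Fin.zero_eta, _root_.Pi.smul_apply, _root_.smul_eq_mul]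
        exact e1
      · simp only [_root_.Matrix.mulVec_fin_two, _root_.Nat.succ_eq_add_one, _root_.Nat.reduceAdd, _root_.Fin.isValue, _root_.Matrix.cons_val_zero, _root_.Matrix.cons_val_one, _root_.Matrix.cons_val_fin_one, _root_.Fin.mk_one, _root_.Pi.smul_apply, _root_.smul_eq_mul]
        exact e2)
    rcases h3 with h3 | ⟨h3, h4⟩
    · left
      have e1 := congrFun h3 0
      have e2 := congrFun h3 1
      simp at e1 e2
      have : a = 0 := Prod.ext e1 e2
      rw [this, ofAdd_zero, map_one]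
    · right
      rw [← map_pow, ← map_pow, ← map_pow, ← map_pow]
      constructor
      · rw [show z ^ 3 = 1 from Units.ext h3, map_one, map_one]
      · rw [show z ^ (Fintype.card F - 1) = 1 from Units.ext h4, map_one, map_one]
  · rw [orderOf_injective (emb : GL (Fin 2) F →* _) emb_injective, orderOf_injective _ htt, hordy, Nat.card_eq_fintype_card]

/-- the torus element `diag (x, 1, x⁻¹)` -/
def tM (F : Type*) [Field F] : Fˣ →* GL (Fin 2) F where
  toFun x := ⟨!![(x : F), 0; 0, 1], !![((x⁻¹ : Fˣ) : F), 0; 0, 1], by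
    ext i j; (revert i j; simp only [Matrix.mul_apply, Fin.sum_univ_two, _root_.Fin.forall_fin_succ, _root_.Units.val_inv_eq_inv_val, _root_.Matrix.of_apply, _root_.Matrix.cons_val', _root_.Matrix.cons_val_fin_one, Fin.isValue, _root_.Matrix.cons_val_zero, _root_.Matrix.cons_val_one, _root_.MulZeroClass.mul_zero, _root_.add_zero, _root_.Matrix.cons_val_succ, _root_.mul_one, _root_.zero_add, _root_.IsEmpty.forall_iff, _root_.and_true, _root_.ne_eq, _root_.Units.ne_zero, _root_.not_false_eq_true, _root_.mul_inv_cancel₀, _root_.Matrix.one_apply_eq, Nat.reduceAdd, _root_.Fin.succ_zero_eq_one, _root_.zero_ne_one, _root_.Matrix.one_apply_ne, _root_.and_self, _root_.MulZeroClass.zero_mul, _root_.Fin.succ_ne_zero, _root_.true_and]), by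
    ext i j; (revert i j; simp only [Matrix.mul_apply, Fin.sum_univ_two, _root_.Fin.forall_fin_succ, _root_.Units.val_inv_eq_inv_val, _root_.Matrix.of_apply, _root_.Matrix.cons_val', _root_.Matrix.cons_val_fin_one, Fin.isValue, _root_.Matrix.cons_val_zero, _root_.Matrix.cons_val_one, _root_.MulZeroClass.mul_zero, _root_.add_zero, _root_.Matrix.cons_val_succ, _root_.mul_one, _root_.zero_add, _root_.IsEmpty.forall_iff, _root_.and_true, _root_.ne_eq, _root_.Units.ne_zero, _root_.not_false_eq_true, _root_.inv_mul_cancel₀, _root_.Matrix.one_apply_eq, Nat.reduceAdd, _root_.Fin.succ_zero_eq_one, _root_.zero_ne_one, _root_.Matrix.one_apply_ne, _root_.and_self, _root_.MulZeroClass.zero_mul, _root_.Fin.succ_ne_zero, _root_.true_and])⟩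
  map_one' := by
    apply Units.ext
    ext i j
    (revert i j; simp only [_root_.Fin.forall_fin_succ, _root_.Units.val_one, _root_.Matrix.of_apply, _root_.Matrix.cons_val', _root_.Matrix.cons_val_fin_one, Fin.isValue, _root_.Matrix.cons_val_zero, _root_.Matrix.cons_val_succ, _root_.IsEmpty.forall_iff, _root_.and_true, _root_.Matrix.one_apply_eq, Nat.reduceAdd, _root_.Fin.succ_zero_eq_one, _root_.ne_eq, _root_.zero_ne_one, _root_.not_false_eq_true, _root_.Matrix.one_apply_ne, _root_.and_self, _root_.Fin.succ_ne_zero, _root_.true_and])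
  map_mul' x y := by
    apply Units.ext
    ext i j
    (revert i j; simp only [Matrix.mul_apply, Fin.sum_univ_two, _root_.Fin.forall_fin_succ, _root_.Units.val_mul, _root_.Matrix.of_apply, _root_.Matrix.cons_val', _root_.Matrix.cons_val_fin_one, _root_.Units.val_inv_eq_inv_val, Fin.isValue, _root_.Matrix.cons_val_zero, _root_.Matrix.cons_val_one, _root_.MulZeroClass.mul_zero, _root_.add_zero, _root_.Matrix.cons_val_succ, _root_.mul_one, _root_.zero_add, _root_.implies_true, _root_.and_true, _root_.MulZeroClass.zero_mul, _root_.and_self])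

omit [Fintype F] in
theorem tM_inj : Function.Injective (tM F) := by
  intro x y h
  apply Units.ext
  exact congrArg (fun z : GL (Fin 2) F => (z : Matrix (Fin 2) (Fin 2) F) 0 0) h

omit [Fintype F] in
theorem coe_tM (z : Fˣ) : (tM F z : Matrix (Fin 2) (Fin 2) F) = !![(z : F), 0; 0, 1] := rfl

theorem tM_uu (z : Fˣ) (a : F) : emb (tM F z) * uu (Multiplicative.ofAdd (a, 0)) =
    uu (Multiplicative.ofAdd ((z : F) ^ 2 * a, 0)) * emb (tM F z) := by
  rw [emb_uu, coe_tM]
  congr 3
  simp [Matrix.det_fin_two]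
  ring

/-- **A long root group with a part of its torus.** -/
theorem frob_root {k : ℕ} (hk : Odd k) (hd : k ∣ Fintype.card F - 1) :
    ∃ (U : Subgroup (Matrix.SpecialLinearGroup (Fin 3) F)) (c : Matrix.SpecialLinearGroup (Fin 3) F),
    Nat.card U = Fintype.card F ∧ (∀ a ∈ U, c * a * c⁻¹ ∈ U) ∧
    (∀ i, ∀ a ∈ U, c ^ i * a = a * c ^ i → a = 1 ∨ c ^ i = 1) ∧ orderOf c = k := by
  classical
  obtain ⟨y, hy⟩ := IsCyclic.exists_generator (α := Fˣ)
  have hy' : orderOf y = Fintype.card F - 1 := by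
    rw [orderOf_eq_card_of_forall_mem_zpowers hy, Nat.card_units, Nat.card_eq_fintype_card]
  obtain ⟨x, hx⟩ := exists_of_dvd hd ⟨y, hy'⟩
  let ι : Multiplicative F →* Multiplicative (F × F) :=
    AddMonoidHom.toMultiplicative (AddMonoidHom.inl F F)
  have hι : Function.Injective ι := by
    intro a b h
    have h1 := congrArg (fun z : Multiplicative (F × F) => (Multiplicative.toAdd z).1) h
    exact Multiplicative.toAdd.injective h1
  refine ⟨(uu.comp ι).range, emb (tM F x), ?_, ?_, ?_, ?_⟩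
  · rw [← Nat.card_congr (MonoidHom.ofInjective (f := uu.comp ι) (uu_injective.comp hι)).toEquiv,
      Nat.card_congr Multiplicative.toAdd, Nat.card_eq_fintype_card]
  · rintro _ ⟨a, rfl⟩
    obtain ⟨a, rfl⟩ := Multiplicative.ofAdd.surjective a
    have h1 : (uu.comp ι) (Multiplicative.ofAdd a) = uu (Multiplicative.ofAdd (a, 0)) := rfl
    rw [h1, tM_uu, mul_inv_cancel_right]
    exact ⟨Multiplicative.ofAdd _, rfl⟩
  · rintro i _ ⟨a, rfl⟩ hc
    obtain ⟨a, rfl⟩ := Multiplicative.ofAdd.surjective a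
    have h1 : (uu.comp ι) (Multiplicative.ofAdd a) = uu (Multiplicative.ofAdd (a, 0)) := rfl
    rw [h1] at hc ⊢
    rw [← map_pow, ← map_pow] at hc ⊢
    rw [tM_uu] at hc
    have h2 := uu_injective (mul_right_cancel hc)
    have h3 : ((x ^ i : Fˣ) : F) ^ 2 * a = a := congrArg Prod.fst (Multiplicative.ofAdd.injective h2)
    by_cases ha : a = 0
    · left
      rw [ha]
      have : ((0 : F), (0 : F)) = 0 := rfl
      rw [this, ofAdd_zero, map_one]
    · right
      have h4 : ((x ^ i : Fˣ) : F) ^ 2 = 1 := by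
        have := mul_right_cancel₀ ha (h3.trans (one_mul a).symm)
        exact this
      have h5 : (x ^ i) ^ 2 = 1 := Units.ext (by rw [Units.val_pow_eq_pow_val, h4, Units.val_one])
      have h6 : (x ^ i) ^ k = 1 := by rw [← pow_mul, mul_comm, pow_mul, ← hx, pow_orderOf_eq_one, one_pow]
      have h7 := pow_gcd_eq_one.2 ⟨h5, h6⟩
      have h8 : Nat.gcd 2 k = 1 := Nat.coprime_two_left.2 hk
      rw [h8, pow_one] at h7
      rw [h7, map_one, map_one]
  · rw [orderOf_injective (emb : GL (Fin 2) F →* _) emb_injective, orderOf_injective (tM F) tM_inj, hx]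

end frob

section norm

/-- An action on an additive group as automorphisms. -/
def actMul {L : Type*} [Group L] {A : Type*} [AddCommGroup A] (φ : L →* AddMonoid.End A) :
    L →* MulAut (Multiplicative A) where
  toFun x :=
    { toFun := fun a => Multiplicative.ofAdd (φ x a.toAdd)
      invFun := fun a => Multiplicative.ofAdd (φ x⁻¹ a.toAdd)
      left_inv := fun a => by
        show Multiplicative.ofAdd ((φ x⁻¹ * φ x) a.toAdd) = a
        rw [← map_mul, inv_mul_cancel, map_one]
        rfl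
      right_inv := fun a => by
        show Multiplicative.ofAdd ((φ x * φ x⁻¹) a.toAdd) = a
        rw [← map_mul, mul_inv_cancel, map_one]
        rfl
      map_mul' := fun a b => by
        show Multiplicative.ofAdd (φ x (a.toAdd + b.toAdd)) = _
        rw [map_add]
        rfl }
  map_one' := by
    ext a
    show Multiplicative.ofAdd (φ 1 a.toAdd) = a
    rw [map_one]
    rfl
  map_mul' x y := by
    ext a
    show Multiplicative.ofAdd (φ (x * y) a.toAdd) = Multiplicative.ofAdd (φ x (φ y a.toAdd))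
    rw [map_mul]
    rfl

/-- **The norm of a Frobenius complement.** -/
theorem exists_norm {L : Type*} [Group L] [hL : IsSimpleGroup L] {H : Type*} [Group H] [Finite H] (σ : H →* L)
    (hσ : Function.Injective σ) (U : Subgroup H) (hU : U ≠ ⊥) {c : H} (hn : ∀ a ∈ U, c * a * c⁻¹ ∈ U)
    (hfix : ∀ i, 0 < i → i < orderOf c → ∀ a ∈ U, c ^ i * a = a * c ^ i → a = 1)
    {p : ℕ} (hcop : (Nat.card U).Coprime p) {A : Type*} [AddCommGroup A] (hA : ∀ a : A, p • a = 0)
    (φ : L →* AddMonoid.End A) :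
    (∀ x a, φ x a = a) ∨ ∃ a : A, ∑ i ∈ range (orderOf (σ c)), φ ((σ c) ^ i) a ≠ 0 := by
  classical
  by_contra hcon
  push Not at hcon
  obtain ⟨⟨x₀, a₀, h0⟩, h1⟩ := hcon
  have hinj : φ.ker = ⊥ := by
    rcases hL.eq_bot_or_eq_top_of_normal φ.ker inferInstance with h | h
    · exact h
    · exfalso
      apply h0
      have h2 : x₀ ∈ φ.ker := by rw [h]; trivial
      rw [MonoidHom.mem_ker] at h2
      rw [h2]
      rfl
  have hfinU : Finite U := inferInstance
  have hn' : ∀ a ∈ U, ∀ i : ℕ, (c ^ i)⁻¹ * a * c ^ i ∈ U := by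
    have h3 : ∀ i : ℕ, ∀ a ∈ U, c ^ i * a * (c ^ i)⁻¹ ∈ U := by
      intro i
      induction i with
      | zero => intro a ha; simpa using ha
      | succ i ih =>
        intro a ha
        have h4 := hn _ (ih a ha)
        have e : c ^ (i + 1) * a * (c ^ (i + 1))⁻¹ = c * (c ^ i * a * (c ^ i)⁻¹) * c⁻¹ := by
          rw [pow_succ']; group
        rw [e]
        exact h4
    intro a ha i
    -- `c⁻ⁱ` is a positive power
    have hfo : 0 < orderOf c := orderOf_pos c
    have h5 : (c ^ i)⁻¹ = c ^ ((orderOf c - 1) * i) := by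
      rw [inv_eq_iff_mul_eq_one, ← pow_add]
      have : i + (orderOf c - 1) * i = orderOf c * i := by
        obtain ⟨k, hk⟩ : ∃ k, orderOf c = k + 1 := ⟨orderOf c - 1, by omega⟩
        rw [hk, Nat.add_sub_cancel]
        ring
      rw [this, pow_mul, pow_orderOf_eq_one, one_pow]
    have h6 := h3 ((orderOf c - 1) * i) a ha
    rw [← h5, inv_inv] at h6
    exact h6
  have key := H371.Frob.trivial_of_norm ((actMul φ).comp σ) U (c := c) (m := orderOf c) (e := p) (orderOf_pos c)
    hn' hfix (fun v => by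
      show Multiplicative.ofAdd (p • v.toAdd) = 1
      rw [hA]
      rfl) hcop (by
      intro v
      have h3 := h1 v.toAdd
      rw [orderOf_injective σ hσ] at h3
      rw [← ofAdd_zero, ← h3, ofAdd_sum]
      refine prod_congr rfl fun i _ => ?_
      show Multiplicative.ofAdd (φ (σ (c ^ i)) v.toAdd) = _
      rw [map_pow σ])
  apply hU
  rw [Subgroup.eq_bot_iff_forall]
  intro a ha
  apply hσ
  rw [map_one, ← Subgroup.mem_bot, ← hinj, MonoidHom.mem_ker]
  apply AddMonoidHom.ext
  intro v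
  exact congrArg Multiplicative.toAdd (key a ha (Multiplicative.ofAdd v))

end norm

section arith

variable {p f q : ℕ} (P : Par p f q)
include P

/-- the trivial action -/
theorem Par.exists_triv {l : ℕ} (hl : l.Prime) : ∃ r, ¬ l ∣ r ∧ (r ∣ q ^ 2 + q + 1 ∨ r ∣ q ^ 2 - q + 1) ∧
    ¬ Om p q (l * r) := by
  have h3 := P.h3
  by_cases h : l ∣ q ^ 2 - q + 1
  · obtain ⟨r, hr, h5, hd⟩ := P.exists_three
    obtain ⟨b1, b2, b3, b4, b5, b6⟩ := P.iso_three hr h5 hd
    refine ⟨r, ?_, Or.inl hd, ?_⟩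
    · intro h1
      rw [(Nat.prime_dvd_prime_iff_eq hl hr).1 h1] at h
      exact b4 h
    · intro h1
      have h2 := P.om_three hr h5 hd (dvd_mul_left r l) h1
      have h4 : l ∣ q ^ 2 + q + 1 := (dvd_mul_right l r).trans h2
      have e1 := phi6 q
      have h6 : l ∣ 2 * q := by
        have h2 : q ^ 2 + q + 1 = (q ^ 2 - q + 1) + 2 * q := by omega
        rw [h2] at h4
        exact (Nat.dvd_add_right h).1 h4
      have h7 : ¬ l ∣ q := by
        intro h8
        have h9 : l ∣ q ^ 2 + q := by rw [pow_two]; exact dvd_add (h8.mul_left _) h8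
        exact hl.one_lt.ne' (Nat.dvd_one.1 ((Nat.dvd_add_right h9).1 h4))
      rcases hl.dvd_mul.1 h6 with h8 | h8
      · have h9 := (Nat.prime_dvd_prime_iff_eq hl Nat.prime_two).1 h8
        rw [h9] at h4
        have : (q ^ 2 + q + 1) % 2 = 1 := by
          rcases Nat.even_or_odd q with ⟨k, hk⟩ | ⟨k, hk⟩
          · have : q ^ 2 = 2 * (k * k * 2) := by rw [hk]; ring
            omega
          · have : q ^ 2 = 2 * (2 * k * k + 2 * k) + 1 := by rw [hk]; ring
            omega
        omega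
      · exact h7 h8
  · obtain ⟨r, hr, h5, hd⟩ := P.exists_six
    refine ⟨r, ?_, Or.inr hd, ?_⟩
    · intro h1
      rw [(Nat.prime_dvd_prime_iff_eq hl hr).1 h1] at h
      exact h hd
    · intro h1
      exact h ((dvd_mul_right l r).trans (P.om_six hr h5 hd (dvd_mul_left r l) h1))

/-- **The numbers.** -/
theorem Par.not_om {l a m : ℕ} (hl : l.Prime) (hlp : l ≠ p) (hla : l = 3 → a = 0) (hm : q - 1 = 3 ^ a * m) :
    ¬ Om p q (l * (m * (q + 1))) := by
  have h3 := P.h3
  have hlp' : ¬ l ∣ p := fun h => hlp ((Nat.prime_dvd_prime_iff_eq hl P.hp).1 h)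
  have hl3 : ¬ l ∣ 3 ^ a := by
    intro h
    have h1 := (Nat.prime_dvd_prime_iff_eq hl Nat.prime_three).1 (hl.dvd_of_dvd_pow h)
    rw [hla h1, pow_zero] at h
    exact hl.one_lt.ne' (Nat.dvd_one.1 h)
  have hm0 : 0 < m := Nat.pos_of_ne_zero (by rintro rfl; omega)
  have hq1 : q + 1 ∣ l * (m * (q + 1)) := (dvd_mul_left _ _).mul_left _
  have e1 := phi6 q
  have hodd : p = 2 → Odd (q + 1) := by
    rintro rfl
    rw [P.hq]
    exact Even.add_one ((Nat.even_pow).2 ⟨even_two, by have := P.hf; omega⟩)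
  have hll : l ∣ l * (m * (q + 1)) := dvd_mul_right _ _
  rintro (h | h | h | h | h | ⟨h1, h | h⟩ | ⟨h1, h⟩)
  · have h2 : l * m ∣ p := Nat.dvd_of_mul_dvd_mul_right (show 0 < q + 1 by omega) (by rwa [mul_assoc])
    exact hlp' ((dvd_mul_right _ _).trans h2)
  · rw [hm] at h
    have h2 : l * (q + 1) ∣ p * 3 ^ a := Nat.dvd_of_mul_dvd_mul_right hm0 (by
      rw [show l * (q + 1) * m = l * (m * (q + 1)) by ring, mul_assoc]
      exact h)
    rcases hl.dvd_mul.1 ((dvd_mul_right _ _).trans h2) with h4 | h4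
    · exact hlp' h4
    · exact hl3 h4
  · rw [sq_sub (by omega), hm] at h
    have h2 : l ∣ 3 ^ a := Nat.dvd_of_mul_dvd_mul_right (show 0 < m * (q + 1) by positivity) (by rwa [← mul_assoc (3 ^ a)])
    exact hl3 h2
  · have h2 := hq1.trans h
    have h4 : q ^ 2 + q + 1 = (q + 1) * q + 1 := by ring
    rw [h4] at h2
    have := Nat.dvd_one.1 ((Nat.dvd_add_right (dvd_mul_right _ _)).1 h2)
    omega
  · have h2 := hq1.trans h
    have h4 : q ^ 2 - q + 1 = (q + 1) * (q - 2) + 3 := by
      obtain ⟨k, rfl⟩ : ∃ k, q = k + 2 := ⟨q - 2, by omega⟩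
      have : (k + 2) ^ 2 = (k + 2 + 1) * k + 3 + (k + 2) - 1 := by
        have : (k + 2) ^ 2 + 1 = (k + 2 + 1) * k + 3 + (k + 2) := by ring
        (clear * - this; omega)
      rw [Nat.add_sub_cancel]
      omega
    rw [h4] at h2
    have := Nat.le_of_dvd (by norm_num) ((Nat.dvd_add_right (dvd_mul_right _ _)).1 h2)
    omega
  · have h2 := hq1.trans h
    have h4 := hodd h1
    have h5 : Nat.Coprime (q + 1) (2 ^ 3) := Nat.Coprime.pow_right _ (Nat.coprime_two_right.2 h4)
    have := Nat.dvd_one.1 (h5 ▸ Nat.dvd_gcd dvd_rfl h2)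
    omega
  · have h2 := hq1.trans h
    have h4 := hodd h1
    have h5 : Nat.Coprime (q + 1) (2 ^ 2) := Nat.Coprime.pow_right _ (Nat.coprime_two_right.2 h4)
    have h6 : q + 1 ∣ 3 := h5.dvd_of_dvd_mul_left (by norm_num; exact h2)
    have := Nat.le_of_dvd (by norm_num) h6
    omega
  · exact hlp' (hl.dvd_of_dvd_pow (hll.trans h))

theorem Par.not_om_three {a m : ℕ} (hp3 : p ≠ 3) (ha : 1 ≤ a) (hm : q - 1 = 3 ^ a * m) (hm3 : ¬ 3 ∣ m) :
    ¬ Om p q (3 * 3 ^ a) := by
  have h3 := P.h3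
  have hq : q % 3 = 1 := by
    obtain ⟨b, rfl⟩ : ∃ b, a = b + 1 := ⟨a - 1, by omega⟩
    rw [pow_succ] at hm
    have : 3 ^ b * 3 * m = 3 * (3 ^ b * m) := by ring
    omega
  have e1 := phi6 q
  have hq2 : q ^ 2 % 3 = 1 := by rw [pow_two, Nat.mul_mod, hq]
  have hp3' : Nat.Coprime 3 p := (Nat.coprime_primes Nat.prime_three P.hp).2 hp3.symm
  have h33 : 3 ∣ 3 * 3 ^ a := dvd_mul_right _ _
  have hcop : Nat.Coprime (3 * 3 ^ a) p := by
    rw [← pow_succ']
    exact Nat.Coprime.pow_left _ hp3'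
  have hpos : 0 < 3 ^ a := by positivity
  have h9 : 9 ∣ 3 * 3 ^ a := by
    obtain ⟨b, rfl⟩ : ∃ b, a = b + 1 := ⟨a - 1, by omega⟩
    exact ⟨3 ^ b, by rw [pow_succ]; ring⟩
  have key : ¬ 3 * 3 ^ a ∣ q - 1 := by
    intro h
    rw [hm, mul_comm 3] at h
    exact hm3 (Nat.dvd_of_mul_dvd_mul_left hpos h)
  rintro (h | h | h | h | h | ⟨h1, h | h⟩ | ⟨h1, h⟩)
  · have := (h33.trans (hcop.dvd_of_dvd_mul_left h))
    omega
  · exact key (hcop.dvd_of_dvd_mul_left h)
  · rw [sq_sub (by omega)] at h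
    have h2 : Nat.Coprime (3 * 3 ^ a) (q + 1) := by
      rw [← pow_succ']
      exact Nat.Coprime.pow_left _ ((Nat.Prime.coprime_iff_not_dvd Nat.prime_three).2 (by omega))
    exact key (h2.dvd_of_dvd_mul_right h)
  · have h2 := h9.trans h
    have h4 : q ^ 2 % 9 = ((q % 9) * (q % 9)) % 9 := by rw [pow_two, Nat.mul_mod]
    have h5 : q % 9 < 9 := Nat.mod_lt _ (by norm_num)
    interval_cases h7 : q % 9 <;> (clear * - hq h7 h2 h4; omega)
  · have := h33.trans h
    omega
  · have := h33.trans h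
    omega
  · have := h9.trans h
    omega
  · have h2 := hcop.dvd_of_dvd_mul_left (show 3 * 3 ^ a ∣ p * p by rw [← pow_two]; exact h)
    have h4 := hcop.eq_one_of_dvd h2
    omega

end arith

theorem simple {F : Type*} [Field F] [Fintype F] (h3 : 3 ≤ Fintype.card F) : IsSimpleGroup ↥(chevG2.group F) := by
  classical
  refine (Cfsg.Agent.S1055.result ?_).1
  by_contra hcon
  push Not at hcon
  have h1 : Fintype.card F ≤ ({0, 1} : Finset F).card := by
    rw [← Finset.card_univ]
    refine Finset.card_le_card fun x _ => ?_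
    by_cases hx : x = 0
    · simp only [hx, _root_.Finset.mem_insert, _root_.Finset.mem_singleton, _root_.zero_ne_one, _root_.or_false]
    · simp only [hcon x hx, _root_.Finset.mem_insert, _root_.one_ne_zero, _root_.Finset.mem_singleton, _root_.or_true]
  have h2 : ({0, 1} : Finset F).card ≤ 2 := Finset.card_le_two
  omega

/-- **Cross characteristic.** -/
theorem cov_cross {F : Type*} [Field F] [Fintype F] {p f : ℕ} (P : Par p f (Fintype.card F)) {l : ℕ} (hl : l.Prime)
    (hlp : l ≠ p) {V : Type w} [AddCommGroup V] [Nontrivial V] (hV : ∀ v : V, l • v = 0)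
    (φ : ↥(chevG2.group F) →* AddMonoid.End V) :
    ∃ (x : ↥(chevG2.group F)) (v : V), ∑ i ∈ range (orderOf x), φ (x ^ i) v ≠ 0 ∧
      ¬ ∃ y : ↥(chevG2.group F), orderOf y = l * orderOf x := by
  classical
  set q := Fintype.card F with hqdef
  have h3 := P.h3
  have hpf : Fact p.Prime := ⟨P.hp⟩
  have hchar : CharP F p := H161.G2Main.charP_of_card (n := f) (by have := P.hf; omega) (by rw [← hqdef]; exact P.hq)
  have hsimp := simple (F := F) h3
  obtain ⟨σ, hσ⟩ := exists_sigma (F := F)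
  have hlq : ¬ l ∣ q := fun h => hlp (P.prime_eq hl h)
  -- the trivial action
  have htriv : (∀ x a, φ x a = a) → ∃ (x : ↥(chevG2.group F)) (v : V), ∑ i ∈ range (orderOf x), φ (x ^ i) v ≠ 0 ∧
      ¬ ∃ y : ↥(chevG2.group F), orderOf y = l * orderOf x := by
    intro h
    obtain ⟨r, h1, h2, h4⟩ := P.exists_triv hl
    obtain ⟨x, hx⟩ : ∃ x : ↥(chevG2.group F), orderOf x = r := by
      rw [om_iff P]
      rcases h2 with h2 | h2
      · exact Or.inr (Or.inr (Or.inr (Or.inl h2)))
      · exact Or.inr (Or.inr (Or.inr (Or.inr (Or.inl h2))))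
    obtain ⟨v, hv⟩ := exists_ne (0 : V)
    exact ⟨x, v, H373.Recog.sum_ne_zero_of_fixed hl hV φ hv (h x v) (by rw [hx]; exact h1), by
      rw [om_iff P, hx]; exact h4⟩
  -- the 3-part
  obtain ⟨a, m, hm3, hm⟩ := Nat.exists_eq_pow_mul_and_not_dvd (n := q - 1) (by omega) 3 (by norm_num)
  by_cases hc : l = 3 ∧ 1 ≤ a
  · obtain ⟨rfl, ha⟩ := hc
    have hno := P.not_om_three (Ne.symm hlp) ha hm hm3
    obtain ⟨U, c, hU, hn, hfix, hc⟩ := frob_root (F := F) (k := 3 ^ a) (Odd.pow (by decide)) ⟨m, hm⟩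
    rcases exists_norm σ hσ U (by
      rintro rfl
      rw [Subgroup.card_bot] at hU
      omega) hn (by
      intro i hi hi' b hb hcb
      rcases hfix i b hb hcb with h | h
      · exact h
      · exfalso
        exact absurd (Nat.le_of_dvd hi (orderOf_dvd_of_pow_eq_one h)) (by omega)) (p := 3) (by
      rw [hU]
      exact ((Nat.Prime.coprime_iff_not_dvd Nat.prime_three).2 hlq).symm) hV φ with h | ⟨v, hv⟩
    · exact htriv h
    · refine ⟨σ c, v, hv, ?_⟩
      rw [om_iff P, orderOf_injective σ hσ, hc]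
      exact hno
  · have hla : l = 3 → a = 0 := fun h => by
      by_contra h'
      exact hc ⟨h, by omega⟩
    have hno := P.not_om hl hlp hla hm
    obtain ⟨U, c, hU, hn, hfix, hc'⟩ := frob (F := F) (p := p)
    have hmpos : 0 < m := Nat.pos_of_ne_zero (by rintro rfl; omega)
    have ho : orderOf (c ^ 3 ^ a) = m * (q + 1) := by
      have h1 : q ^ 2 - 1 = 3 ^ a * (m * (q + 1)) := by
        rw [sq_sub (by omega), hm, mul_assoc]
      rw [orderOf_pow_of_dvd (by positivity) (by rw [hc', h1]; exact dvd_mul_right _ _), hc', h1,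
        Nat.mul_div_cancel_left _ (by positivity)]
    have hnk : ∀ i : ℕ, ∀ b ∈ U, c ^ i * b * (c ^ i)⁻¹ ∈ U := by
      intro i
      induction i with
      | zero => intro b hb; simpa using hb
      | succ i ih =>
        intro b hb
        have h4 := hn _ (ih b hb)
        have e : c ^ (i + 1) * b * (c ^ (i + 1))⁻¹ = c * (c ^ i * b * (c ^ i)⁻¹) * c⁻¹ := by
          rw [pow_succ']; group
        rw [e]
        exact h4
    rcases exists_norm σ hσ U (by
      rintro rfl
      rw [Subgroup.card_bot] at hU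
      nlinarith only [h3, hU]) (hnk (3 ^ a)) (by
      intro i hi hi' b hb hcb
      rw [← pow_mul] at hcb
      rcases hfix _ b hb hcb with h | ⟨h1, h2⟩
      · exact h
      · exfalso
        rw [pow_mul] at h1 h2
        set y := (c ^ 3 ^ a) ^ i with hy
        have hy1 : y ≠ 1 := by
          intro h
          exact absurd (Nat.le_of_dvd hi (orderOf_dvd_of_pow_eq_one h)) (by omega)
        have hy3 : orderOf y = 3 := orderOf_eq_prime h1 hy1
        have h4 : 3 ∣ q - 1 := hy3 ▸ orderOf_dvd_of_pow_eq_one h2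
        have h5 : 3 ∣ m * (q + 1) := by
          rw [← hy3, ← ho]
          exact orderOf_pow_dvd i
        rcases Nat.prime_three.dvd_mul.1 h5 with h6 | h6
        · exact hm3 h6
        · (clear * - h4 h6; omega)) (p := l) (by
      rw [hU]
      exact Nat.Coprime.pow_left _ ((Nat.Prime.coprime_iff_not_dvd hl).2 hlq).symm) hV φ with h | ⟨v, hv⟩
    · exact htriv h
    · refine ⟨σ (c ^ 3 ^ a), v, hv, ?_⟩
      rw [om_iff P, orderOf_injective σ hσ, ho]
      exact hno

end Cfsg.Agent.H542.G2X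
end
end
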